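import Mathlib
import Groth.Agent.Lib.Helper8.Hens.Normal

/-!
# Local rings of étale algebras over a normal domain are normal domains; fraction fields of
essentially finite type unramified extensions are finite separable (helper8)
-/

universe u
open IsLocalRing TensorProduct

namespace Groth.Agent.H8.NormInt

open Groth.Agent.H8.Hens

/-- The local rings of an étale algebra over a normal domain are normal domains. -/
theorem normal_of_etale_atPrime (P T₀ : Type u) [CommRing P] [IsDomain P] [IsIntegrallyClosed P]
    [CommRing T₀] [Algebra P T₀] [Algebra.Etale P T₀] (q : Ideal T₀) [q.IsPrime] :
    IsDomain (Localization.AtPrime q) ∧ IsIntegrallyClosed (Localization.AtPrime q) := by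
  haveI : IsReduced T₀ := isReduced_of_smooth P T₀
  haveI : Module.Flat P (Localization.AtPrime q) := Module.Flat.trans P T₀ (Localization.AtPrime q)
  haveI : Algebra.EssFiniteType P (Localization.AtPrime q) :=
    Algebra.EssFiniteType.comp P T₀ (Localization.AtPrime q)
  haveI : Algebra.FormallyUnramified P (Localization.AtPrime q) :=
    Algebra.FormallyUnramified.comp P T₀ (Localization.AtPrime q)
  refine isDomain_and_isIntegrallyClosed_of_isLocalRing P (Localization.AtPrime q) ?_
  exact TensorProduct.toIntegralClosure_bijective_of_tower (S := T₀) (T := Localization.AtPrime q)
    TensorProduct.toIntegralClosure_bijective_of_smooth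
    (TensorProduct.toIntegralClosure_bijective_of_isLocalization q.primeCompl)

attribute [local instance] FractionRing.liftAlgebra

/-- The fraction field of a domain essentially of finite type and formally unramified over a
domain `A` is finite separable over the fraction field of `A`. -/
theorem fractionRing_finite_separable (A E : Type u) [CommRing A] [IsDomain A] [CommRing E]
    [IsDomain E] [Algebra A E] [FaithfulSMul A E] [Algebra.EssFiniteType A E]
    [Algebra.FormallyUnramified A E] :
    FiniteDimensional (FractionRing A) (FractionRing E) ∧
      Algebra.IsSeparable (FractionRing A) (FractionRing E) := by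
  haveI : Algebra.EssFiniteType A (FractionRing E) :=
    Algebra.EssFiniteType.comp A E (FractionRing E)
  haveI : Algebra.EssFiniteType (FractionRing A) (FractionRing E) :=
    Algebra.EssFiniteType.of_comp A (FractionRing A) (FractionRing E)
  haveI : Algebra.FormallyUnramified A (FractionRing E) :=
    Algebra.FormallyUnramified.comp A E (FractionRing E)
  haveI : Algebra.FormallyUnramified (FractionRing A) (FractionRing E) :=
    Algebra.FormallyUnramified.of_restrictScalars A (FractionRing A) (FractionRing E)
  exact ⟨Algebra.FormallyUnramified.finite_of_free _ _,
    Algebra.FormallyUnramified.isSeparable _ _⟩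

end Groth.Agent.H8.NormInt
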