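import Mathlib
import Groth.Agent.Lib.Helper8.EssEt.ResField
import Groth.Agent.Lib.Helper8.EssEt.F1
import Groth.Agent.Lib.Helper8.EssEt.F2
import Groth.Agent.Lib.Helper8.EssEt.Unram
import Groth.Agent.Lib.Helper8.Hens.Normal
import Groth.Agent.Lib.Helper8.NormInt.NormLoc

/-!
# Normal local intermediate rings of a strict henselization: general lemmas (helper8)
-/

universe u
open IsLocalRing TensorProduct
open scoped nonZeroDivisors

namespace Groth.Agent.H8.NormInt

open Groth.Agent.H8.Hens Groth.Agent.H8.EssEt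

section General

/-- A subalgebra of a normal domain, integral over the base and closed under "integral fractions",
is integrally closed. -/
theorem isIntegrallyClosed_of_forall {A S : Type*} [CommRing A] [CommRing S] [IsDomain S]
    [IsIntegrallyClosed S] [Algebra A S] (C : Subalgebra A S) [Algebra.IsIntegral A C]
    (h : ∀ y : S, IsIntegral A y → (∃ c₁ ∈ C, ∃ c₂ ∈ C, c₂ ≠ 0 ∧ c₂ * y = c₁) → y ∈ C) :
    IsIntegrallyClosed C := by
  rw [isIntegrallyClosed_iff (FractionRing C)]
  intro x hx
  let g : C →ₐ[A] FractionRing S := (IsScalarTower.toAlgHom A S (FractionRing S)).comp C.val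
  have hg : Function.Injective g :=
    (IsFractionRing.injective S (FractionRing S)).comp Subtype.val_injective
  let ι : FractionRing C →ₐ[A] FractionRing S := IsFractionRing.liftAlgHom hg
  have hι : ∀ c : C, ι (algebraMap C (FractionRing C) c) =
      algebraMap S (FractionRing S) (c : S) :=
    fun c => IsFractionRing.lift_algebraMap hg c
  have hιinj : Function.Injective ι := (ι : FractionRing C →+* FractionRing S).injective
  have hxA : IsIntegral A x := isIntegral_trans x hx
  have h1 : IsIntegral A (ι x) := hxA.map ι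
  have h2 : IsIntegral S (ι x) := h1.tower_top
  obtain ⟨y, hy⟩ := IsIntegrallyClosed.isIntegral_iff.mp h2
  have hyA : IsIntegral A y := by
    have h3 : IsIntegral A (IsScalarTower.toAlgHom A S (FractionRing S) y) := by
      show IsIntegral A (algebraMap S (FractionRing S) y)
      rw [hy]; exact h1
    exact (isIntegral_algHom_iff _ (IsFractionRing.injective S (FractionRing S))).mp h3
  obtain ⟨⟨c₁, c₂⟩, hc⟩ := IsLocalization.surj (nonZeroDivisors C) x
  have hc₂ : (c₂ : C) ≠ 0 := nonZeroDivisors.ne_zero c₂.2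
  have h3 : ((c₂ : C) : S) * y = (c₁ : S) := by
    apply IsFractionRing.injective S (FractionRing S)
    rw [map_mul, hy, ← hι, ← hι, ← map_mul, mul_comm]
    exact congrArg ι hc
  have hyC : y ∈ C := h y hyA ⟨c₁, c₁.2, (c₂ : C), (c₂ : C).2,
    fun h0 => hc₂ (Subtype.ext h0), h3⟩
  refine ⟨⟨y, hyC⟩, ?_⟩
  apply hιinj
  rw [hι]; exact hy

/-- An integrally closed subalgebra of a domain contains the integral fractions of its
elements. -/
theorem mem_of_isIntegral_of_mul_eq {A S : Type*} [CommRing A] [CommRing S] [IsDomain S]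
    [Algebra A S] (D : Subalgebra A S) [IsIntegrallyClosed D] (y : S) (hy : IsIntegral A y)
    (h : ∃ d₁ ∈ D, ∃ d₂ ∈ D, d₂ ≠ 0 ∧ d₂ * y = d₁) : y ∈ D := by
  obtain ⟨d₁, hd₁, d₂, hd₂, h0, hmul⟩ := h
  let g : D →ₐ[A] FractionRing S := (IsScalarTower.toAlgHom A S (FractionRing S)).comp D.val
  have hg : Function.Injective g :=
    (IsFractionRing.injective S (FractionRing S)).comp Subtype.val_injective
  let ι : FractionRing D →ₐ[A] FractionRing S := IsFractionRing.liftAlgHom hg
  have hι : ∀ c : D, ι (algebraMap D (FractionRing D) c) =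
      algebraMap S (FractionRing S) (c : S) :=
    fun c => IsFractionRing.lift_algebraMap hg c
  have hιinj : Function.Injective ι := (ι : FractionRing D →+* FractionRing S).injective
  obtain ⟨x, hx⟩ : ∃ x : FractionRing D, x = algebraMap D (FractionRing D) ⟨d₁, hd₁⟩ /
    algebraMap D (FractionRing D) ⟨d₂, hd₂⟩ := ⟨_, rfl⟩
  have hS2 : algebraMap S (FractionRing S) d₂ ≠ 0 := by
    rw [Ne, map_eq_zero_iff _ (IsFractionRing.injective S (FractionRing S))]; exact h0
  have hιx : ι x = algebraMap S (FractionRing S) y := by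
    rw [hx, map_div₀, hι, hι, div_eq_iff hS2, ← map_mul, mul_comm, hmul]
  have hxA : IsIntegral A x := by
    have h3 : IsIntegral A (ι x) := by
      rw [hιx]; exact hy.map (IsScalarTower.toAlgHom A S (FractionRing S))
    exact (isIntegral_algHom_iff ι hιinj).mp h3
  have hxD : IsIntegral D x := hxA.tower_top
  obtain ⟨z, hz⟩ := IsIntegrallyClosed.isIntegral_iff.mp hxD
  have h4 : (z : S) = y := by
    apply IsFractionRing.injective S (FractionRing S)
    rw [← hι, hz, hιx]
  rw [← h4]; exact z.2

attribute [local instance] Algebra.TensorProduct.rightAlgebra in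
/-- Base change of an integral algebra is integral (right algebra structure). -/
theorem isIntegral_rightAlgebra (A C E₀ : Type*) [CommRing A] [CommRing C] [CommRing E₀]
    [Algebra A C] [Algebra A E₀] [Algebra.IsIntegral A C] (b : C ⊗[A] E₀) : IsIntegral E₀ b := by
  induction b with
  | zero => exact isIntegral_zero
  | add x y hx hy => exact hx.add hy
  | tmul c y =>
    have h1 : IsIntegral A ((Algebra.TensorProduct.includeLeft : C →ₐ[A] C ⊗[A] E₀) c) :=
      (Algebra.IsIntegral.isIntegral c).map _
    have h2 : IsIntegral E₀ (c ⊗ₜ[A] (1 : E₀)) := h1.tower_top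
    have h3 : c ⊗ₜ[A] y = (c ⊗ₜ[A] (1 : E₀)) * algebraMap E₀ (C ⊗[A] E₀) y := by
      show c ⊗ₜ[A] y = (c ⊗ₜ[A] (1 : E₀)) * ((1 : C) ⊗ₜ[A] y)
      rw [Algebra.TensorProduct.tmul_mul_tmul, mul_one, one_mul]
    rw [h3]; exact h2.mul isIntegral_algebraMap

end General

section U

variable (A S : Type u) [CommRing A] [IsLocalRing A]
  [CommRing S] [IsLocalRing S] [Algebra A S] [IsLocalHom (algebraMap A S)]
  [hS : Hensel.IsStrictHenselization A S]

include hS in
/-- A local, essentially of finite type, formally unramified `A`-algebra with an `A`-algebra map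
to `A^{sh}` is essentially étale. -/
theorem isEssentiallyEtale_of_formallyUnramified_of_algHom (D : Type u) [CommRing D]
    [IsLocalRing D] [Algebra A D] [IsLocalHom (algebraMap A D)] [Algebra.EssFiniteType A D]
    [Algebra.FormallyUnramified A D] (φ : D →ₐ[A] S) : EGA4loc.IsEssentiallyEtale A D := by
  obtain ⟨E, _, _, _, _, ψ, hE, hψ⟩ := exists_essEtale_surjective A D
  let φ' : E →ₐ[A] S := φ.comp ψ
  letI : Algebra E S := φ'.toRingHom.toAlgebra
  haveI : IsScalarTower A E S := IsScalarTower.of_algebraMap_eq' φ'.comp_algebraMap.symm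
  have hinj : Function.Injective φ' := injective_of_essEtale A S E hE
  have hinjψ : Function.Injective ψ := fun x y hxy => hinj (by
    show φ (ψ x) = φ (ψ y)
    rw [hxy])
  exact of_algEquiv (AlgEquiv.ofBijective ψ ⟨hinjψ, hψ⟩) hE

include hS in
/-- Essentially étale subalgebras of `A^{sh}` are closed under fractions lying in `A^{sh}`. -/
theorem EtSub.mem_of_mul_eq [IsDomain S] (X : EtSub A S) (x e₁ e₂ : S) (h₁ : e₁ ∈ X.E)
    (h₂ : e₂ ∈ X.E) (h0 : e₂ ≠ 0) (h : e₂ * x = e₁) : x ∈ X.E := by
  haveI := faithfullyFlat_of_essEtale A S X.E X.ess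
  have h3 := Ideal.comap_map_eq_self_of_faithfullyFlat (B := S)
    (Ideal.span {(⟨e₂, h₂⟩ : X.E)})
  have h4 : (⟨e₁, h₁⟩ : X.E) ∈ Ideal.span {(⟨e₂, h₂⟩ : X.E)} := by
    rw [← h3, Ideal.mem_comap, Ideal.map_span, Set.image_singleton, Ideal.mem_span_singleton]
    exact ⟨x, h.symm⟩
  obtain ⟨e', he'⟩ := Ideal.mem_span_singleton.mp h4
  have h5 : e₁ = e₂ * (e' : S) := congrArg Subtype.val he'
  have h6 : x = e' := by
    apply mul_left_cancel₀ h0
    rw [h, h5]
  rw [h6]; exact e'.2

end U

end Groth.Agent.H8.NormInt
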