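import Mathlib
import Groth.Agent.Lib.Helper8.NormInt.Gen

/-!
# An essentially étale local algebra is flat over normal integral subalgebras (helper8)
-/

universe u
open IsLocalRing TensorProduct
open scoped nonZeroDivisors

namespace Groth.Agent.H8.NormInt

open Groth.Agent.H8.Hens Groth.Agent.H8.EssEt

/-- Let `E` be an essentially étale local `A`-algebra which is a domain, and `C` a normal domain,
integral over `A`, mapping to `E`. Then `E` is flat over `C`. (`C ⊗ E₀` is étale over the normal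
domain `C`, so its local rings are domains, and `E` is such a local ring.) -/
theorem flat_of_normal (A C E : Type u) [CommRing A] [IsLocalRing A] [CommRing C] [IsDomain C]
    [IsIntegrallyClosed C] [Algebra A C] [Algebra.IsIntegral A C] [CommRing E] [IsDomain E]
    [IsLocalRing E] [Algebra A E] [Algebra C E] [IsScalarTower A C E]
    (hE : EGA4loc.IsEssentiallyEtale A E) : Module.Flat C E := by
  obtain ⟨E₀, _, _, q₀, _, hE₀, hq₀, ⟨e⟩⟩ := hE
  obtain ⟨φ₀, hφ₀⟩ : ∃ φ₀ : E₀ →ₐ[A] E,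
      ∀ y, φ₀ y = e.symm (algebraMap E₀ (Localization.AtPrime q₀) y) :=
    ⟨(e.symm : Localization.AtPrime q₀ →ₐ[A] E).comp
      (IsScalarTower.toAlgHom A E₀ (Localization.AtPrime q₀)), fun _ => rfl⟩
  obtain ⟨μ₀, hμ₀⟩ : ∃ μ₀ : C ⊗[A] E₀ →ₐ[C] E,
      ∀ (c : C) (y : E₀), μ₀ (c ⊗ₜ y) = algebraMap C E c * φ₀ y :=
    ⟨Algebra.TensorProduct.lift (Algebra.ofId C E) φ₀ (fun _ _ => Commute.all _ _),
      fun c y => by rw [Algebra.TensorProduct.lift_tmul]; rfl⟩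
  obtain ⟨P₀, hP₀⟩ : ∃ P₀ : Ideal (C ⊗[A] E₀), P₀ = (maximalIdeal E).comap μ₀ := ⟨_, rfl⟩
  have hP₀mem : ∀ b : C ⊗[A] E₀, b ∈ P₀ ↔ μ₀ b ∈ maximalIdeal E := fun b => by
    rw [hP₀, Ideal.mem_comap]
  haveI : P₀.IsPrime := by rw [hP₀]; exact Ideal.comap_isPrime _ _
  obtain ⟨hdom, -⟩ := normal_of_etale_atPrime C (C ⊗[A] E₀) P₀
  have hunit : ∀ m : P₀.primeCompl, IsUnit (μ₀ m) := fun m => by
    have h1 : (m : C ⊗[A] E₀) ∉ P₀ := m.2
    rw [hP₀mem] at h1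
    exact IsLocalRing.notMem_maximalIdeal.mp h1
  have hφunit : ∀ t : q₀.primeCompl, IsUnit (φ₀ t) := fun t => by
    rw [hφ₀]
    exact (IsLocalization.map_units (Localization.AtPrime q₀) t).map e.symm
  have hmem : ∀ t : q₀.primeCompl, ((1 : C) ⊗ₜ[A] (t : E₀)) ∈ P₀.primeCompl := fun t => by
    show ((1 : C) ⊗ₜ[A] (t : E₀)) ∉ P₀
    rw [hP₀mem, hμ₀, map_one, one_mul]
    exact IsLocalRing.notMem_maximalIdeal.mpr (hφunit t)
  -- the kernel of `μ₀` dies in the localization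
  have hker : ∀ b : C ⊗[A] E₀, μ₀ b = 0 →
      algebraMap (C ⊗[A] E₀) (Localization.AtPrime P₀) b = 0 := by
    intro b hb0
    by_contra hbT
    obtain ⟨𝔮, h𝔮⟩ : ∃ 𝔮 : Ideal (C ⊗[A] E₀), 𝔮 = RingHom.ker (μ₀ : C ⊗[A] E₀ →+* E) :=
      ⟨_, rfl⟩
    obtain ⟨𝔮₀, h𝔮₀⟩ : ∃ 𝔮₀ : Ideal (C ⊗[A] E₀),
      𝔮₀ = RingHom.ker (algebraMap (C ⊗[A] E₀) (Localization.AtPrime P₀)) := ⟨_, rfl⟩
    haveI : 𝔮₀.IsPrime := by rw [h𝔮₀]; exact RingHom.ker_isPrime _
    have hle : 𝔮₀ ≤ 𝔮 := by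
      intro x hx
      rw [h𝔮₀, RingHom.mem_ker] at hx
      rw [h𝔮, RingHom.mem_ker]
      obtain ⟨m, hm⟩ := (IsLocalization.map_eq_zero_iff P₀.primeCompl
        (Localization.AtPrime P₀) x).mp hx
      have h1 := congrArg μ₀ hm
      rw [map_mul, map_zero] at h1
      exact (mul_eq_zero.mp h1).resolve_left (hunit m).ne_zero
    letI : Algebra E₀ (C ⊗[A] E₀) := Algebra.TensorProduct.rightAlgebra
    have hint : IsIntegral E₀ b := isIntegral_rightAlgebra A C E₀ b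
    have hb𝔮 : b ∈ 𝔮 := by rw [h𝔮, RingHom.mem_ker]; exact hb0
    have hb𝔮₀ : b ∉ 𝔮₀ := by rw [h𝔮₀, RingHom.mem_ker]; exact hbT
    have hlt := Ideal.comap_lt_comap_of_integral_mem_sdiff hle ⟨hb𝔮, hb𝔮₀⟩ hint
    obtain ⟨y, hy1, hy2⟩ := SetLike.exists_of_lt hlt
    rw [Ideal.mem_comap, h𝔮, RingHom.mem_ker] at hy1
    rw [Ideal.mem_comap, h𝔮₀, RingHom.mem_ker] at hy2
    have hy3 : μ₀ ((1 : C) ⊗ₜ[A] y) = 0 := hy1
    rw [hμ₀, map_one, one_mul, hφ₀] at hy3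
    have hy4 : algebraMap E₀ (Localization.AtPrime q₀) y = 0 := by
      have := congrArg e hy3
      rwa [e.apply_symm_apply, map_zero] at this
    obtain ⟨t, ht⟩ := (IsLocalization.map_eq_zero_iff q₀.primeCompl
      (Localization.AtPrime q₀) y).mp hy4
    apply hy2
    show algebraMap (C ⊗[A] E₀) (Localization.AtPrime P₀) ((1 : C) ⊗ₜ[A] y) = 0
    rw [IsLocalization.map_eq_zero_iff P₀.primeCompl]
    refine ⟨⟨_, hmem t⟩, ?_⟩
    show ((1 : C) ⊗ₜ[A] (t : E₀)) * ((1 : C) ⊗ₜ[A] y) = 0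
    rw [Algebra.TensorProduct.tmul_mul_tmul, ht, TensorProduct.tmul_zero]
  -- the map from the localization
  obtain ⟨ν, hν⟩ : ∃ ν : Localization.AtPrime P₀ →ₐ[C] E,
      ∀ b, ν (algebraMap (C ⊗[A] E₀) (Localization.AtPrime P₀) b) = μ₀ b :=
    ⟨IsLocalization.liftAlgHom (M := P₀.primeCompl) (f := μ₀) hunit,
      fun b => IsLocalization.lift_eq _ b⟩
  have hνspec : ∀ (b : C ⊗[A] E₀) (m : P₀.primeCompl),
      ν (IsLocalization.mk' (Localization.AtPrime P₀) b m) * μ₀ m = μ₀ b := fun b m => by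
    rw [← hν m, ← map_mul, IsLocalization.mk'_spec, hν]
  have hinj : Function.Injective ν := by
    rw [injective_iff_map_eq_zero]
    intro x hx
    obtain ⟨⟨b, m⟩, rfl⟩ := IsLocalization.mk'_surjective P₀.primeCompl x
    have h1 := hνspec b m
    rw [hx, zero_mul] at h1
    have h2 := hker b h1.symm
    rw [IsLocalization.mk'_eq_zero_iff]
    exact (IsLocalization.map_eq_zero_iff _ _ _).mp h2
  have hsurj : Function.Surjective ν := by
    intro z
    obtain ⟨⟨a, t⟩, hat⟩ := IsLocalization.mk'_surjective q₀.primeCompl (e z)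
    have h1 : φ₀ t * z = φ₀ a := by
      rw [hφ₀, hφ₀]
      apply e.injective
      rw [map_mul, e.apply_symm_apply, e.apply_symm_apply, ← hat, mul_comm]
      exact IsLocalization.mk'_spec _ _ _
    refine ⟨IsLocalization.mk' (Localization.AtPrime P₀) ((1 : C) ⊗ₜ[A] a) ⟨_, hmem t⟩, ?_⟩
    have h2 := hνspec ((1 : C) ⊗ₜ[A] a) ⟨_, hmem t⟩
    rw [hμ₀, hμ₀, map_one, one_mul, one_mul, ← h1, mul_comm] at h2
    exact (hφunit t).mul_left_cancel h2
  haveI : Module.Flat A E₀ := inferInstance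
  haveI : Module.Flat C (Localization.AtPrime P₀) :=
    Module.Flat.trans C (C ⊗[A] E₀) (Localization.AtPrime P₀)
  exact Module.Flat.of_linearEquiv (LinearEquiv.ofBijective ν.toLinearMap ⟨hinj, hsurj⟩).symm

end Groth.Agent.H8.NormInt
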