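import Mathlib
import Groth.Agent.Lib.Helper8.NormInt.Flat

/-!
# Normal local intermediate rings of the strict henselization of a normal local domain are
essentially étale (helper8)
-/

universe u
open IsLocalRing TensorProduct
open scoped nonZeroDivisors

namespace Groth.Agent.H8.NormInt

open Groth.Agent.H8.Hens Groth.Agent.H8.EssEt

/-- The contraction of the maximal ideal. -/
abbrev nIdeal (C E : Type u) [CommRing C] [CommRing E] [IsLocalRing E] [Algebra C E] : Ideal C :=
  (maximalIdeal E).comap (algebraMap C E)

section G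

variable (A C E : Type u) [CommRing A] [IsLocalRing A] [CommRing C] [Algebra A C]
  [CommRing E] [IsLocalRing E] [Algebra A E] [IsLocalHom (algebraMap A E)] [Algebra C E]
  [IsScalarTower A C E] [Module.Flat C E]

local notation "Cn" => Localization.AtPrime (nIdeal C E)

/-- Faithfully flat descent from an essentially étale local `A`-algebra `E` to the localization of
`C` at the contraction of the maximal ideal. -/
theorem descent (hE : EGA4loc.IsEssentiallyEtale A E) :
    ((maximalIdeal A).map (algebraMap A Cn) = maximalIdeal Cn) ∧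
    IsLocalHom (algebraMap A Cn) ∧
    (∀ (a : A) (c : C) (e' : E), algebraMap C E c = algebraMap A E a * e' →
      ∃ y : Cn, algebraMap C Cn c = algebraMap A Cn a * y) := by
  have hunits : ∀ t : (nIdeal C E).primeCompl, IsUnit (algebraMap C E t) := fun t =>
    IsLocalRing.notMem_maximalIdeal.mp t.2
  letI : Algebra Cn E :=
    (IsLocalization.lift (M := (nIdeal C E).primeCompl) (g := algebraMap C E) hunits).toAlgebra
  have halg : ∀ c : C, algebraMap Cn E (algebraMap C Cn c) = algebraMap C E c :=
    fun c => IsLocalization.lift_eq hunits c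
  haveI : IsScalarTower C Cn E := IsScalarTower.of_algebraMap_eq (fun c => (halg c).symm)
  haveI : IsScalarTower A Cn E := IsScalarTower.of_algebraMap_eq (fun a => by
    rw [IsScalarTower.algebraMap_apply A C Cn, halg, ← IsScalarTower.algebraMap_apply])
  haveI : IsLocalizedModule (nIdeal C E).primeCompl (LinearMap.id : E →ₗ[C] E) :=
    isLocalizedModule_id _ E Cn
  haveI : Module.Flat Cn E :=
    Module.Flat.of_isLocalizedModule (R := C) (M := E) (Mp := E) (Rp := Cn)
      (nIdeal C E).primeCompl LinearMap.id
  haveI : IsLocalHom (algebraMap Cn E) := by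
    constructor
    intro x hx
    obtain ⟨⟨c, t⟩, rfl⟩ := IsLocalization.mk'_surjective (nIdeal C E).primeCompl x
    rw [IsLocalization.AtPrime.isUnit_mk'_iff (Localization.AtPrime (nIdeal C E)) (nIdeal C E)]
    have h1 : algebraMap Cn E (IsLocalization.mk' Cn c t) * algebraMap C E t =
        algebraMap C E c := by
      rw [← halg, ← map_mul, IsLocalization.mk'_spec, halg]
    have h2 : IsUnit (algebraMap C E c) := by rw [← h1]; exact hx.mul (hunits t)
    exact fun hc => (IsLocalRing.notMem_maximalIdeal.mpr h2) hc
  haveI : Module.FaithfullyFlat Cn E := Module.FaithfullyFlat.of_flat_of_isLocalHom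
  have hloc : IsLocalHom (algebraMap A Cn) := by
    constructor
    intro a ha
    have h1 : IsUnit (algebraMap A E a) := by
      rw [IsScalarTower.algebraMap_apply A Cn E]; exact ha.map _
    exact IsLocalHom.map_nonunit (f := algebraMap A E) a h1
  refine ⟨?_, hloc, ?_⟩
  · apply le_antisymm
    · exact ((IsLocalRing.local_hom_TFAE (algebraMap A Cn)).out 0 2).mp hloc
    · intro x hx
      rw [← Ideal.comap_map_eq_self_of_faithfullyFlat (B := E)
        ((maximalIdeal A).map (algebraMap A Cn)), Ideal.mem_comap, Ideal.map_map,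
        ← IsScalarTower.algebraMap_eq, map_maximalIdeal hE]
      by_contra hcon
      have h1 := IsLocalRing.notMem_maximalIdeal.mp hcon
      exact hx (IsLocalHom.map_nonunit (f := algebraMap Cn E) x h1)
  · intro a c e' h
    have h1 : algebraMap C Cn c ∈ Ideal.span {algebraMap A Cn a} := by
      rw [← Ideal.comap_map_eq_self_of_faithfullyFlat (B := E)
        (Ideal.span {algebraMap A Cn a}), Ideal.mem_comap, Ideal.map_span, Set.image_singleton,
        Ideal.mem_span_singleton, halg, ← IsScalarTower.algebraMap_apply A Cn E]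
      exact ⟨e', h⟩
    obtain ⟨y, hy⟩ := Ideal.mem_span_singleton.mp h1
    exact ⟨y, hy⟩

end G

section Fin

attribute [local instance] FractionRing.liftAlgebra

/-- An integral subalgebra of an unramified essentially finite type domain over a Noetherian
normal domain is finite. -/
theorem finite_of_le {A S : Type u} [CommRing A] [IsDomain A] [IsIntegrallyClosed A]
    [IsNoetherianRing A] [CommRing S] [IsDomain S] [Algebra A S] (E C : Subalgebra A S)
    (hCE : C ≤ E) [FaithfulSMul A E] [Algebra.EssFiniteType A E] [Algebra.FormallyUnramified A E]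
    [Algebra.IsIntegral A C] : Module.Finite A C := by
  obtain ⟨h1, h2⟩ := fractionRing_finite_separable A E
  haveI := h1
  haveI := h2
  haveI : Module.Finite A (integralClosure A (FractionRing E)) :=
    IsIntegralClosure.finite A (FractionRing A) (FractionRing E) (integralClosure A (FractionRing E))
  let f₀ : C →ₐ[A] FractionRing E :=
    (IsScalarTower.toAlgHom A E (FractionRing E)).comp (Subalgebra.inclusion hCE)
  have hf₀ : ∀ c, f₀ c ∈ integralClosure A (FractionRing E) := fun c =>
    (Algebra.IsIntegral.isIntegral c).map f₀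
  let f : C →ₐ[A] integralClosure A (FractionRing E) := f₀.codRestrict _ hf₀
  have hf : Function.Injective f := by
    intro x y hxy
    have h3 : f₀ x = f₀ y := congrArg Subtype.val hxy
    have h4 := IsFractionRing.injective E (FractionRing E) h3
    exact Subalgebra.inclusion_injective hCE h4
  exact Module.Finite.of_injective f.toLinearMap hf

/-- Elements of such a domain are algebraic over `A`. -/
theorem isAlgebraic_of_mem {A S : Type u} [CommRing A] [IsDomain A] [CommRing S] [IsDomain S]
    [Algebra A S] (E : Subalgebra A S) [FaithfulSMul A E] [Algebra.EssFiniteType A E]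
    [Algebra.FormallyUnramified A E] (d : S) (hd : d ∈ E) : IsAlgebraic A d := by
  obtain ⟨h1, -⟩ := fractionRing_finite_separable A E
  haveI := h1
  have h2 : IsAlgebraic (FractionRing A) (algebraMap E (FractionRing E) ⟨d, hd⟩) :=
    Algebra.IsAlgebraic.isAlgebraic _
  have h3 : IsAlgebraic A (algebraMap E (FractionRing E) ⟨d, hd⟩) :=
    (IsFractionRing.isAlgebraic_iff A (FractionRing A) (FractionRing E)).mpr h2
  have h4 : IsAlgebraic A (⟨d, hd⟩ : E) :=
    (isAlgebraic_algHom_iff (IsScalarTower.toAlgHom A E (FractionRing E))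
      (IsFractionRing.injective E (FractionRing E))).mp h3
  exact (isAlgebraic_algHom_iff E.val Subtype.val_injective).mpr h4

end Fin

section Core

variable (A S : Type u) [CommRing A] [IsLocalRing A] [IsDomain A] [IsIntegrallyClosed A]
  [IsNoetherianRing A] [CommRing S] [IsLocalRing S] [Algebra A S] [IsLocalHom (algebraMap A S)]
  [hS : Hensel.IsStrictHenselization A S]

include hS in
/-- **Core**: a subalgebra `D` of `A^{sh}` (for `A` a Noetherian normal local domain) contained in
an essentially étale local subalgebra, closed under inverses of units of `A^{sh}` and under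
integral fractions, is an essentially étale local `A`-algebra dominated by `A^{sh}`. -/
theorem core (X : EtSub A S) (D : Subalgebra A S) (hDE : D ≤ X.E)
    (hL : ∀ d ∈ D, IsUnit d → ∃ d' ∈ D, d * d' = 1)
    (hN : ∀ y : S, IsIntegral A y → (∃ d₁ ∈ D, ∃ d₂ ∈ D, d₂ ≠ 0 ∧ d₂ * y = d₁) → y ∈ D) :
    ∃ _ : IsLocalRing D, IsLocalHom (algebraMap D S) ∧ EGA4loc.IsEssentiallyEtale A D := by
  classical
  obtain ⟨hSdom, hSnorm⟩ := (normal_iff_of_isStrictHenselization (R := A) S).mp
    ⟨inferInstance, inferInstance⟩
  haveI := hSdom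
  haveI := hSnorm
  haveI hff : Module.FaithfullyFlat A S := faithfullyFlat_of_isStrictHenselization (R := A) S
  have hinjAS : Function.Injective (algebraMap A S) := FaithfulSMul.algebraMap_injective A S
  -- the integral part `C` of `D`
  obtain ⟨C, hC⟩ : ∃ C : Subalgebra A S, C = D ⊓ integralClosure A S := ⟨_, rfl⟩
  have hCD : C ≤ D := hC ▸ inf_le_left
  have hCint : ∀ c ∈ C, IsIntegral A c := fun c hc => by rw [hC] at hc; exact hc.2
  have hCmem : ∀ c ∈ D, IsIntegral A c → c ∈ C := fun c h1 h2 => by rw [hC]; exact ⟨h1, h2⟩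
  have hCE : C ≤ X.E := hCD.trans hDE
  haveI : Algebra.IsIntegral A C :=
    ⟨fun c => (isIntegral_algHom_iff C.val Subtype.val_injective).mp (hCint c c.2)⟩
  haveI : IsIntegrallyClosed C := isIntegrallyClosed_of_forall C
    (fun y hy ⟨c₁, hc₁, c₂, hc₂, h0, h⟩ =>
      hCmem y (hN y hy ⟨c₁, hCD hc₁, c₂, hCD hc₂, h0, h⟩) hy)
  -- `E`
  have hEss := X.ess
  haveI : FaithfulSMul A X.E := (faithfulSMul_iff_algebraMap_injective A X.E).mpr
    (fun a a' h => hinjAS (congrArg Subtype.val h))
  haveI := essFiniteType hEss
  haveI := formallyUnramified hEss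
  haveI hfin : Module.Finite A C := finite_of_le X.E C hCE
  letI : Algebra C X.E := (Subalgebra.inclusion hCE).toRingHom.toAlgebra
  haveI : IsScalarTower A C X.E := IsScalarTower.of_algebraMap_eq (fun a => rfl)
  haveI : Module.Flat C X.E := flat_of_normal A C X.E hEss
  obtain ⟨hG1, hG2, hG3⟩ := descent A C X.E hEss
  haveI := hG2
  haveI : Algebra.EssFiniteType A (Localization.AtPrime (nIdeal C X.E)) :=
    Algebra.EssFiniteType.comp A C _
  -- the map to `S`
  have hunitS : ∀ t : (nIdeal C X.E).primeCompl, IsUnit (C.val t) := fun t => by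
    have h1 : IsUnit (algebraMap C X.E t) := IsLocalRing.notMem_maximalIdeal.mp t.2
    exact h1.map (algebraMap X.E S)
  obtain ⟨ψ, hψ⟩ : ∃ ψ : Localization.AtPrime (nIdeal C X.E) →ₐ[A] S,
      ∀ c : C, ψ (algebraMap C _ c) = (c : S) :=
    ⟨IsLocalization.liftAlgHom (M := (nIdeal C X.E).primeCompl) (f := C.val) hunitS,
      fun c => IsLocalization.lift_eq _ c⟩
  have hψspec : ∀ (c : C) (t : (nIdeal C X.E).primeCompl),
      ψ (IsLocalization.mk' (Localization.AtPrime (nIdeal C X.E)) c t) * ((t : C) : S) =
        (c : S) := fun c t => by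
    rw [← hψ t, ← map_mul, IsLocalization.mk'_spec, hψ]
  haveI hψloc : IsLocalHom (ψ : Localization.AtPrime (nIdeal C X.E) →+* S) := by
    constructor
    intro x hx
    obtain ⟨⟨c, t⟩, rfl⟩ := IsLocalization.mk'_surjective (nIdeal C X.E).primeCompl x
    rw [IsLocalization.AtPrime.isUnit_mk'_iff (Localization.AtPrime (nIdeal C X.E))
      (nIdeal C X.E)]
    have h2 : IsUnit (c : S) := by
      rw [← hψspec c t]; exact IsUnit.mul hx (hunitS t)
    have h3 : IsUnit (algebraMap C X.E c) :=
      IsLocalHom.map_nonunit (f := algebraMap X.E S) (algebraMap C X.E c) h2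
    exact fun hc => (IsLocalRing.notMem_maximalIdeal.mpr h3) hc
  -- separable residue field
  haveI : Algebra.IsSeparable (ResidueField A) (ResidueField S) := hS.isSepClosure.separable
  let g : ResidueField (Localization.AtPrime (nIdeal C X.E)) →ₐ[ResidueField A] ResidueField S :=
    { ResidueField.map (ψ : Localization.AtPrime (nIdeal C X.E) →+* S) with
      commutes' := fun x => by
        obtain ⟨a, rfl⟩ := residue_surjective x
        show ResidueField.map (ψ : Localization.AtPrime (nIdeal C X.E) →+* S)
          (ResidueField.map (algebraMap A (Localization.AtPrime (nIdeal C X.E))) (residue A a)) =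
          ResidueField.map (algebraMap A S) (residue A a)
        simp only [ResidueField.map_residue]
        congr 1
        exact ψ.commutes a }
  haveI : Algebra.IsSeparable (ResidueField A)
      (ResidueField (Localization.AtPrime (nIdeal C X.E))) :=
    Algebra.IsSeparable.of_algHom _ _ g
  haveI : Algebra.FormallyUnramified A (Localization.AtPrime (nIdeal C X.E)) :=
    Algebra.FormallyUnramified.of_map_maximalIdeal hG1
  have hCn : EGA4loc.IsEssentiallyEtale A (Localization.AtPrime (nIdeal C X.E)) :=
    isEssentiallyEtale_of_formallyUnramified_of_algHom A S _ ψ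
  have hψinj : Function.Injective ψ := by
    letI : Algebra (Localization.AtPrime (nIdeal C X.E)) S := ψ.toRingHom.toAlgebra
    haveI : IsScalarTower A (Localization.AtPrime (nIdeal C X.E)) S :=
      IsScalarTower.of_algebraMap_eq' ψ.comp_algebraMap.symm
    exact injective_of_essEtale A S _ hCn
  -- the range of `ψ` is `D`
  have hrange : ψ.range = D := by
    apply le_antisymm
    · rintro _ ⟨x, rfl⟩
      obtain ⟨⟨c, t⟩, rfl⟩ := IsLocalization.mk'_surjective (nIdeal C X.E).primeCompl x
      have h1 := hψspec c t
      obtain ⟨d', hd', hd'1⟩ := hL ((t : C) : S) (hCD (t : C).2) (hunitS t)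
      have h2 : ψ (IsLocalization.mk' (Localization.AtPrime (nIdeal C X.E)) c t) =
          (c : S) * d' := by
        rw [← h1, mul_assoc, hd'1, mul_one]
      show ψ (IsLocalization.mk' (Localization.AtPrime (nIdeal C X.E)) c t) ∈ D
      rw [h2]
      exact D.mul_mem (hCD c.2) hd'
    · intro d hd
      have hdE : d ∈ X.E := hDE hd
      have halg : IsAlgebraic A d := isAlgebraic_of_mem X.E d hdE
      obtain ⟨a, ha0, haint⟩ := halg.exists_integral_multiple
      have hc : a • d ∈ C := hCmem _ (D.smul_mem hd a) haint
      obtain ⟨y, hy⟩ := hG3 a ⟨a • d, hc⟩ ⟨d, hdE⟩ (by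
        apply Subtype.ext
        show a • d = algebraMap A S a * d
        exact Algebra.smul_def a d)
      refine ⟨y, ?_⟩
      have h1 := congrArg ψ hy
      rw [hψ, map_mul, ψ.commutes] at h1
      have h2 : algebraMap A S a ≠ 0 := fun h => ha0 (hinjAS (by rw [h, map_zero]))
      apply mul_left_cancel₀ h2
      show algebraMap A S a * ψ y = algebraMap A S a * d
      rw [← h1]
      exact Algebra.smul_def a d
  let eqv : Localization.AtPrime (nIdeal C X.E) ≃ₐ[A] D :=
    (AlgEquiv.ofInjective ψ hψinj).trans (Subalgebra.equivOfEq _ _ hrange)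
  have hD : EGA4loc.IsEssentiallyEtale A D := of_algEquiv eqv hCn
  have hDloc : IsLocalRing D := eqv.toRingEquiv.isLocalRing
  refine ⟨hDloc, ?_, hD⟩
  constructor
  intro d hd
  obtain ⟨d', hd', h1⟩ := hL d d.2 hd
  exact IsUnit.of_mul_eq_one (⟨d', hd'⟩ : D) (Subtype.ext h1)

end Core

end Groth.Agent.H8.NormInt
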