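import Mathlib
import Groth.Agent.Lib.Helper8.NormInt.Core

/-!
# S16432, S16433: normal local intermediate rings of a strict henselization (helper8)
-/

universe u
open IsLocalRing TensorProduct
open scoped nonZeroDivisors

namespace Groth.Agent.H8.NormInt

open Groth.Agent.H8.Hens Groth.Agent.H8.EssEt

section Main

variable (A S : Type u) [CommRing A] [IsLocalRing A] [IsDomain A] [IsIntegrallyClosed A]
  [IsNoetherianRing A] [CommRing S] [IsLocalRing S] [Algebra A S] [IsLocalHom (algebraMap A S)]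
  [hS : Hensel.IsStrictHenselization A S]

include hS in
omit [IsDomain A] [IsIntegrallyClosed A] [IsNoetherianRing A] in
theorem le_of_closure_eq_top [IsDomain S] (X : EtSub A S) (D : Subalgebra A S) (s : Finset D)
    (hs : Subfield.closure (Set.range (algebraMap A (FractionRing D)) ∪
      (algebraMap D (FractionRing D)) '' (s : Set D)) = ⊤)
    (hsE : ∀ d ∈ s, ((d : D) : S) ∈ X.E) : D ≤ X.E := by
  let g : D →+* FractionRing S := (algebraMap S (FractionRing S)).comp (D.val : D →+* S)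
  have hg : Function.Injective g :=
    (IsFractionRing.injective S (FractionRing S)).comp Subtype.val_injective
  let ι : FractionRing D →+* FractionRing S := IsFractionRing.lift hg
  have hι : ∀ d : D, ι (algebraMap D (FractionRing D) d) =
      algebraMap S (FractionRing S) (d : S) :=
    fun d => IsFractionRing.lift_algebraMap hg d
  let gE : X.E →+* FractionRing S := (algebraMap S (FractionRing S)).comp (X.E.val : X.E →+* S)
  have hgE : Function.Injective gE :=
    (IsFractionRing.injective S (FractionRing S)).comp Subtype.val_injective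
  let ιE : FractionRing X.E →+* FractionRing S := IsFractionRing.lift hgE
  have hιE : ∀ e : X.E, ιE (algebraMap X.E (FractionRing X.E) e) =
      algebraMap S (FractionRing S) (e : S) :=
    fun e => IsFractionRing.lift_algebraMap hgE e
  have hM : Subfield.closure (Set.range (algebraMap A (FractionRing D)) ∪
      (algebraMap D (FractionRing D)) '' (s : Set D)) ≤ ιE.fieldRange.comap ι := by
    rw [Subfield.closure_le]
    rintro x (⟨a, rfl⟩ | ⟨d, hd, rfl⟩)
    · show ι (algebraMap A _ a) ∈ ιE.fieldRange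
      refine ⟨algebraMap A (FractionRing X.E) a, ?_⟩
      rw [IsScalarTower.algebraMap_apply A X.E (FractionRing X.E), hιE,
        IsScalarTower.algebraMap_apply A D (FractionRing D), hι]
      rfl
    · show ι (algebraMap D _ d) ∈ ιE.fieldRange
      refine ⟨algebraMap X.E _ ⟨d, hsE d hd⟩, ?_⟩
      rw [hιE, hι]
  rw [hs] at hM
  intro d hd
  have h1 : ι (algebraMap D _ ⟨d, hd⟩) ∈ ιE.fieldRange := hM (Subfield.mem_top _)
  obtain ⟨y, hy⟩ := h1
  obtain ⟨⟨e₁, e₂⟩, he⟩ := IsLocalization.surj (nonZeroDivisors X.E) y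
  have h2 : (((e₂ : X.E) : S)) * d = (e₁ : S) := by
    apply IsFractionRing.injective S (FractionRing S)
    have h3 := congrArg ιE he
    rw [map_mul, hy, hι, hιE, hιE] at h3
    rw [map_mul, mul_comm]
    exact h3
  exact EtSub.mem_of_mul_eq A S X d e₁ (e₂ : X.E) e₁.2 (e₂ : X.E).2
    (fun h0 => nonZeroDivisors.ne_zero e₂.2 (Subtype.ext h0)) h2

include hS in
/-- S16432 (library form). -/
theorem main32 (D : Subalgebra A S) [IsLocalRing D]
    [IsLocalHom (algebraMap D S)] [IsDomain D] [IsIntegrallyClosed D]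
    (hfg : ∃ s : Finset D, Subfield.closure (Set.range (algebraMap A (FractionRing D)) ∪
        (algebraMap D (FractionRing D)) '' (s : Set D)) = ⊤) :
    EGA4loc.IsEssentiallyEtale A D := by
  classical
  obtain ⟨hSdom, hSnorm⟩ := (normal_iff_of_isStrictHenselization (R := A) S).mp
    ⟨inferInstance, inferInstance⟩
  haveI := hSdom
  obtain ⟨s, hs⟩ := hfg
  obtain ⟨E, hsE, _, _, hE⟩ := exists_essEtale_subalgebra A S (s.image (fun d : D => (d : S)))
  obtain ⟨X, rfl⟩ : ∃ X : EtSub A S, X.E = E := ⟨⟨E, hE⟩, rfl⟩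
  have hDE : D ≤ X.E := le_of_closure_eq_top A S X D s hs (fun d hd => hsE (by
    simp only [Finset.coe_image, Set.mem_image, Finset.mem_coe]
    exact ⟨d, hd, rfl⟩))
  have hL : ∀ d ∈ D, IsUnit d → ∃ d' ∈ D, d * d' = 1 := by
    intro d hd hu
    have h1 : IsUnit (⟨d, hd⟩ : D) := IsLocalHom.map_nonunit (f := algebraMap D S) (⟨d, hd⟩ : D) hu
    obtain ⟨d', hd'⟩ := h1.exists_right_inv
    exact ⟨d', d'.2, congrArg Subtype.val hd'⟩
  obtain ⟨_, _, h⟩ := core A S X D hDE hL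
    (fun y hy h => mem_of_isIntegral_of_mul_eq D y hy h)
  exact h

include hS in
/-- S16433 (library form). -/
theorem main33 (D : Subalgebra A S) [IsLocalRing D]
    [IsLocalHom (algebraMap D S)] [IsDomain D] [IsIntegrallyClosed D]
    (s : Finset S) (hs : (s : Set S) ⊆ (D : Set S)) :
    ∃ D' : Subalgebra A S, D' ≤ D ∧ (s : Set S) ⊆ (D' : Set S) ∧
      ∃ _ : IsLocalRing D', IsLocalHom (algebraMap D' S) ∧ EGA4loc.IsEssentiallyEtale A D' := by
  classical
  obtain ⟨hSdom, hSnorm⟩ := (normal_iff_of_isStrictHenselization (R := A) S).mp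
    ⟨inferInstance, inferInstance⟩
  haveI := hSdom
  obtain ⟨E, hsE, _, _, hE⟩ := exists_essEtale_subalgebra A S s
  obtain ⟨X, rfl⟩ : ∃ X : EtSub A S, X.E = E := ⟨⟨E, hE⟩, rfl⟩
  have hLD : ∀ d ∈ D, IsUnit d → ∃ d' ∈ D, d * d' = 1 := by
    intro d hd hu
    have h1 : IsUnit (⟨d, hd⟩ : D) := IsLocalHom.map_nonunit (f := algebraMap D S) (⟨d, hd⟩ : D) hu
    obtain ⟨d', hd'⟩ := h1.exists_right_inv
    exact ⟨d', d'.2, congrArg Subtype.val hd'⟩
  have hLE : ∀ d ∈ X.E, IsUnit d → ∃ d' ∈ X.E, d * d' = 1 := by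
    intro d hd hu
    have h1 : IsUnit (⟨d, hd⟩ : X.E) :=
      IsLocalHom.map_nonunit (f := algebraMap X.E S) (⟨d, hd⟩ : X.E) hu
    obtain ⟨d', hd'⟩ := h1.exists_right_inv
    exact ⟨d', d'.2, congrArg Subtype.val hd'⟩
  have hL : ∀ d ∈ D ⊓ X.E, IsUnit d → ∃ d' ∈ D ⊓ X.E, d * d' = 1 := by
    rintro d ⟨hd1, hd2⟩ hu
    obtain ⟨d', hd', h1⟩ := hLD d hd1 hu
    obtain ⟨e', he', h2⟩ := hLE d hd2 hu
    have h3 : d' = e' := by
      have h4 : d' = d' * (d * e') := by rw [h2, mul_one]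
      rw [h4, ← mul_assoc, mul_comm d' d, h1, one_mul]
    exact ⟨d', ⟨hd', h3 ▸ he'⟩, h1⟩
  have hN : ∀ y : S, IsIntegral A y →
      (∃ d₁ ∈ D ⊓ X.E, ∃ d₂ ∈ D ⊓ X.E, d₂ ≠ 0 ∧ d₂ * y = d₁) → y ∈ D ⊓ X.E := by
    rintro y hy ⟨d₁, ⟨h11, h12⟩, d₂, ⟨h21, h22⟩, h0, h⟩
    exact ⟨mem_of_isIntegral_of_mul_eq D y hy ⟨d₁, h11, d₂, h21, h0, h⟩,
      EtSub.mem_of_mul_eq A S X y d₁ d₂ h12 h22 h0 h⟩
  obtain ⟨h1, h2, h3⟩ := core A S X (D ⊓ X.E) inf_le_right hL hN
  exact ⟨D ⊓ X.E, inf_le_left, fun x hx => ⟨hs hx, hsE hx⟩, h1, h2, h3⟩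

end Main

end Groth.Agent.H8.NormInt
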